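import Mathlib
import Cfsg.Agent.H489.AS.Base

/-!
# Isometries commuting with an irreducible isometry (helper489)
-/

set_option autoImplicit false

universe u v w

namespace Cfsg.Agent.H489.AS

open Module Cfsg.Agent.H518.DghpFix Cfsg.Agent.H518.SU

/-- Elements of a finite field mapped to their inverses by a ring endomorphism. -/
theorem card_unitary_le {K : Type*} [Field K] [Finite K] (f : K →+* K) {Q : ℕ} (hQ : Nat.card K ≤ Q ^ 2) :
    Nat.card {y : K // f y * y = 1} ≤ Q + 1 := by
  classical
  let _ : Fintype K := Fintype.ofFinite K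
  obtain ⟨r, hr⟩ := CharP.exists K
  have hrp : Fact r.Prime := ⟨CharP.char_is_prime K r⟩
  let _ : Algebra (ZMod r) K := ZMod.algebra K r
  have hbij : Function.Bijective f := Finite.injective_iff_bijective.1 f.injective
  let e : K ≃+* K := RingEquiv.ofBijective f hbij
  let e' : Gal(K/(ZMod r)) := AlgEquiv.ofRingEquiv (f := e) (fun c => by
    have : (e : K →+* K).comp (algebraMap (ZMod r) K) = algebraMap (ZMod r) K := RingHom.ext_zmod _ _
    exact RingHom.congr_fun this c)
  have he' : ∀ y, e' y = f y := fun y => rfl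
  obtain ⟨i, hi⟩ := (FiniteField.bijective_frobeniusAlgEquivOfAlgebraic_pow (ZMod r) K).2 e'
  have hi' : FiniteField.frobeniusAlgEquivOfAlgebraic (ZMod r) K ^ (i : ℕ) = e' := hi
  have hf : ∀ y, f y = y ^ r ^ (i : ℕ) := by
    intro y
    have h7 : (FiniteField.frobeniusAlgEquivOfAlgebraic (ZMod r) K ^ (i : ℕ)) y = y ^ r ^ (i : ℕ) := by
      rw [AlgEquiv.coe_pow, FiniteField.coe_frobeniusAlgEquivOfAlgebraic_iterate, ZMod.card]
    rw [← he', ← hi', h7]
  obtain ⟨N, hN⟩ : ∃ N, finrank (ZMod r) K = N := ⟨_, rfl⟩
  have hcard : Nat.card K = r ^ N := by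
    rw [Nat.card_eq_fintype_card, Module.card_eq_pow_finrank (K := ZMod r), ZMod.card, hN]
  have hiN : (i : ℕ) < N := hN ▸ i.2
  -- roots of unity
  have hroots : ∀ j : ℕ, (∀ y : K, f y * y = 1 → y ^ (r ^ j + 1) = 1) →
      Nat.card {y : K // f y * y = 1} ≤ r ^ j + 1 := by
    intro j hj
    have hpos : 0 < r ^ j + 1 := by omega
    have h1 : Nat.card {y : K // f y * y = 1} ≤ Nat.card ↥((Polynomial.nthRoots (r ^ j + 1) (1 : K)).toFinset) :=
      Nat.card_le_card_of_injective
        (fun y => ⟨y.1, by
          rw [Multiset.mem_toFinset, Polynomial.mem_nthRoots hpos]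
          exact hj y.1 y.2⟩)
        (fun a b hab => Subtype.ext (by
          have h2 := congrArg Subtype.val hab
          exact h2))
    refine h1.trans ?_
    rw [Nat.card_eq_fintype_card, Fintype.card_coe]
    exact (Multiset.toFinset_card_le _).trans (Polynomial.card_nthRoots _ _)
  have hinv : ∀ y : K, f y * y = 1 → y ^ (r ^ (i : ℕ) + 1) = 1 := by
    intro y hy
    rw [hf, ← pow_succ] at hy
    exact hy
  have hinv2 : ∀ y : K, f y * y = 1 → y ^ (r ^ (N - (i : ℕ)) + 1) = 1 := by
    intro y hy
    have h1 := hinv y hy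
    have h2 : (y ^ (r ^ (i : ℕ) + 1)) ^ r ^ (N - (i : ℕ)) = y ^ (r ^ (N - (i : ℕ))) * y := by
      rw [← pow_mul, add_mul, one_mul, ← pow_add, Nat.add_sub_cancel' hiN.le, pow_add, ← hcard,
        Nat.card_eq_fintype_card, FiniteField.pow_card, mul_comm]
    rw [h1, one_pow] at h2
    rw [pow_succ]
    exact h2.symm
  have hr1 : 1 < r := hrp.out.one_lt
  have key : ∀ j : ℕ, 2 * j ≤ N → r ^ j + 1 ≤ Q + 1 := by
    intro j hj
    have h1 : (r ^ j) ^ 2 ≤ Q ^ 2 := by
      rw [← pow_mul]
      exact (Nat.pow_le_pow_right hrp.out.pos (by omega)).trans (hcard ▸ hQ)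
    have h2 := (Nat.pow_le_pow_iff_left (by norm_num : (2 : ℕ) ≠ 0)).1 h1
    omega
  rcases Nat.lt_or_ge N (2 * (i : ℕ)) with h | h
  · exact (hroots _ hinv2).trans (key _ (by omega))
  · exact (hroots _ hinv).trans (key _ h)

section

variable {F : Type u} [Field F] [Finite F] {W : Type v} [AddCommGroup W] [Module F W] [FiniteDimensional F W]

/-- **Isometries commuting with an irreducible isometry.** -/
theorem card_isom_le {B : W → W → F} (hadd : ∀ x y z, B (x + y) z = B x z + B y z)
    (hadd' : ∀ x y z, B x (y + z) = B x y + B x z) (σ : F →+* F) (hσ : ∀ (c : F) x y, B (c • x) y = σ c * B x y)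
    (hsmul : ∀ (c : F) x y, B x (c • y) = c * B x y) (hnd : ∀ y, (∀ x, B x y = 0) → y = 0)
    {z z' : Module.End F W} (hzz : z * z' = 1) (hzB : ∀ x y, B (z x) (z y) = B x y)
    (hirr : ∀ U : Submodule F W, (∀ u ∈ U, z u ∈ U) → U = ⊥ ∨ U = ⊤) [Nontrivial W] {Q : ℕ}
    (hQ : Nat.card W ≤ Q ^ 2) :
    Nat.card {g : Module.End F W // g * z = z * g ∧ ∀ x y, B (g x) (g y) = B x y} ≤ Q + 1 := by
  classical
  have : Finite W := Module.finite_of_finite F
  have : Finite (Module.End F W) := Module.finite_of_finite F
  -- the centralizer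
  set D := Subalgebra.centralizer F ({z} : Set (Module.End F W)) with hD
  have hmem : ∀ a : Module.End F W, a ∈ D ↔ a * z = z * a := by
    intro a
    rw [hD, Subalgebra.mem_centralizer_iff]
    constructor
    · intro h
      exact (h z rfl).symm
    · intro h y hy
      rw [Set.mem_singleton_iff.1 hy]
      exact h.symm
  -- nonzero elements are injective
  have hinj : ∀ a ∈ D, a ≠ 0 → Function.Injective a := by
    intro a ha h0
    rcases hirr (LinearMap.ker a) (fun u hu => by
      rw [LinearMap.mem_ker] at hu ⊢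
      have h2 : a (z u) = z (a u) := by
        rw [← Module.End.mul_apply, ← Module.End.mul_apply, (hmem a).1 ha]
      rw [h2, hu, map_zero]) with h | h
    · exact LinearMap.ker_eq_bot.1 h
    · exact absurd (LinearMap.ker_eq_top.1 h) h0
  obtain ⟨w0, hw0⟩ := exists_ne (0 : W)
  -- `D` is generated by `z`
  have hadj : ∀ a ∈ D, a ∈ Algebra.adjoin F ({z} : Set (Module.End F W)) := by
    intro a ha
    let U : Submodule F W := (Subalgebra.toSubmodule (Algebra.adjoin F ({z} : Set (Module.End F W)))).map
      (LinearMap.applyₗ (R := F) w0)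
    have hU : ∀ u ∈ U, z u ∈ U := by
      rintro _ ⟨k, hk, rfl⟩
      exact ⟨z * k, (Algebra.adjoin F {z}).mul_mem (Algebra.subset_adjoin rfl) hk, rfl⟩
    have hU2 : U = ⊤ := by
      refine (hirr U hU).resolve_left fun h => hw0 ?_
      have h1 : w0 ∈ U := ⟨1, (Algebra.adjoin F {z}).one_mem, rfl⟩
      rw [h, Submodule.mem_bot] at h1
      exact h1
    have h1 : a w0 ∈ U := by rw [hU2]; trivial
    obtain ⟨k, hk, hk2⟩ := h1
    have hkD : k ∈ D := by
      have h3 : Algebra.adjoin F ({z} : Set (Module.End F W)) ≤ D := by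
        rw [Algebra.adjoin_le_iff, Set.singleton_subset_iff]
        exact (hmem z).2 rfl
      exact h3 hk
    by_contra hne
    have h4 : a - k ≠ 0 := by
      intro h
      rw [sub_eq_zero.1 h] at hne
      exact hne hk
    have h5 := hinj _ (D.sub_mem ha hkD) h4
    apply hw0
    apply h5
    rw [map_zero, LinearMap.sub_apply, sub_eq_zero]
    exact hk2.symm
  -- commutativity
  have hcomm : ∀ a ∈ D, ∀ b ∈ D, a * b = b * a := by
    intro a ha b hb
    have h1 : Algebra.adjoin F ({z} : Set (Module.End F W)) ≤ Subalgebra.centralizer F {b} := by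
      rw [Algebra.adjoin_le_iff, Set.singleton_subset_iff]
      show z ∈ Subalgebra.centralizer F {b}
      rw [Subalgebra.mem_centralizer_iff]
      intro y hy
      rw [Set.mem_singleton_iff.1 hy]
      exact (hmem b).1 hb
    have h2 := h1 (hadj a ha)
    rw [Subalgebra.mem_centralizer_iff] at h2
    exact (h2 b rfl).symm
  have huniq : ∀ a b : Module.End F W, (∀ x y, B x (a y) = B x (b y)) → a = b := by
    intro a b h
    ext y
    have h1 : a y - b y = 0 := by
      apply hnd
      intro x
      have h2 : a y - b y = a y + (-1 : F) • b y := by rw [neg_smul, one_smul, sub_eq_add_neg]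
      rw [h2, hadd', hsmul, h]
      ring
    exact sub_eq_zero.1 h1
  -- the adjoint
  have hex : ∀ a ∈ D, ∃ a' ∈ D, ∀ x y, B (a x) y = B x (a' y) := by
    intro a ha
    have hz' : z' ∈ D := by
      rw [hmem]
      have h1 : z' * z = 1 := mul_eq_one_comm.1 hzz
      rw [h1, hzz]
    refine Algebra.adjoin_induction (p := fun a _ => ∃ a' ∈ D, ∀ x y, B (a x) y = B x (a' y)) ?_ ?_ ?_ ?_ (hadj a ha)
    · intro b hb
      rw [Set.mem_singleton_iff.1 hb]
      refine ⟨z', hz', fun x y => ?_⟩
      have h1 : y = z (z' y) := by rw [← Module.End.mul_apply, hzz]; rfl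
      conv_lhs => rw [h1]
      exact hzB _ _
    · intro c
      refine ⟨algebraMap F _ (σ c), D.algebraMap_mem _, fun x y => ?_⟩
      rw [Module.algebraMap_end_apply, Module.algebraMap_end_apply, hσ, hsmul]
    · rintro b c - - ⟨b', hb', hb⟩ ⟨c', hc', hc⟩
      refine ⟨b' + c', D.add_mem hb' hc', fun x y => ?_⟩
      rw [LinearMap.add_apply, LinearMap.add_apply, hadd, hadd', hb, hc]
    · rintro b c - - ⟨b', hb', hb⟩ ⟨c', hc', hc⟩
      refine ⟨c' * b', D.mul_mem hc' hb', fun x y => ?_⟩
      rw [Module.End.mul_apply, Module.End.mul_apply, hb, hc]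
  choose st hstD hst using hex
  -- the field
  let _ : CommRing D := { (inferInstance : Ring D) with
    mul_comm := fun a b => Subtype.ext (hcomm a a.2 b b.2) }
  have : Nontrivial D := ⟨0, 1, fun h => hw0 (by
    have h1 := congrArg (fun a : D => (a : Module.End F W) w0) h
    exact h1.symm)⟩
  have : NoZeroDivisors D := ⟨by
    intro a b hab
    by_contra hcon
    push Not at hcon
    obtain ⟨ha, hb⟩ := hcon
    have h1 : (a : Module.End F W) ((b : Module.End F W) w0) = 0 := by
      have := congrArg (fun a : D => (a : Module.End F W) w0) hab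
      exact this
    have ha' : (a : Module.End F W) ≠ 0 := fun h => ha (Subtype.ext h)
    have hb' : (b : Module.End F W) ≠ 0 := fun h => hb (Subtype.ext h)
    have h2 : (b : Module.End F W) w0 = 0 := hinj _ a.2 ha' (by rw [h1, map_zero])
    exact hw0 (hinj _ b.2 hb' (by rw [h2, map_zero]))⟩
  have hdom : IsDomain D := NoZeroDivisors.to_isDomain D
  have hfield : IsField D := Finite.isDomain_to_isField D
  let _ : Field D := hfield.toField
  let f : D →+* D :=
    { toFun := fun a => ⟨st a a.2, hstD a a.2⟩
      map_one' := Subtype.ext (huniq _ _ fun x y => by rw [← hst]; rfl)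
      map_zero' := Subtype.ext (huniq _ _ fun x y => by
        rw [← hst]
        have h1 : B ((0 : F) • x) y = 0 := by rw [hσ, map_zero, zero_mul]
        have h2 : B x ((0 : F) • y) = 0 := by rw [hsmul, zero_mul]
        rw [zero_smul] at h1 h2
        exact h1.trans h2.symm)
      map_add' := fun a b => Subtype.ext (huniq _ _ fun x y => by
        rw [← hst]
        show B ((a : Module.End F W) x + (b : Module.End F W) x) y = B x (st a a.2 y + st b b.2 y)
        rw [hadd, hadd', ← hst, ← hst])
      map_mul' := fun a b => Subtype.ext (huniq _ _ fun x y => by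
        rw [← hst]
        show B ((a : Module.End F W) ((b : Module.End F W) x)) y = B x (st a a.2 (st b b.2 y))
        rw [hst a a.2, hst b b.2]
        congr 1
        have h1 := hcomm _ (hstD b b.2) _ (hstD a a.2)
        exact LinearMap.congr_fun h1 y) }
  have hcardD : Nat.card D ≤ Q ^ 2 := by
    refine le_trans (Nat.card_le_card_of_injective (fun a : D => (a : Module.End F W) w0) ?_) hQ
    intro a b hab
    by_contra hne
    have h1 : (a : Module.End F W) - b ≠ 0 := fun h => hne (Subtype.ext (sub_eq_zero.1 h))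
    have h2 := hinj _ (D.sub_mem a.2 b.2) h1
    apply hw0
    apply h2
    rw [map_zero, LinearMap.sub_apply]
    exact sub_eq_zero.2 hab
  refine le_trans ?_ (card_unitary_le f hcardD)
  refine Nat.card_le_card_of_injective (fun g => ⟨⟨g.1, (hmem _).2 g.2.1⟩, ?_⟩) ?_
  · apply Subtype.ext
    refine huniq _ _ fun x y => ?_
    show B x (st g.1 _ (g.1 y)) = B x y
    rw [← hst, g.2.2]
  · intro a b hab
    apply Subtype.ext
    exact congrArg (fun a : {y : D // f y * y = 1} => ((a : D) : Module.End F W)) hab

end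

section

variable {F : Type u} [Field F] [Fintype F] {V : Type v} [AddCommGroup V] [Module F V] [FiniteDimensional F V]

/-- The commutator space of an element of prime order. -/
theorem range_facts {f : V →ₗ[F] V} {p : ℕ} (hp : p.Prime) (hpF : ¬ p ∣ Fintype.card F) (hf : f ^ p = 1) (hf1 : f ≠ 1)
    (h2e : finrank F V < 2 * orderOf ((Fintype.card F : ℕ) : ZMod p)) :
    finrank F (LinearMap.range (f - 1)) = orderOf ((Fintype.card F : ℕ) : ZMod p) ∧
      LinearMap.range (f - 1) ⊓ fixS f = ⊥ ∧ LinearMap.range (f - 1) ⊔ fixS f = ⊤ := by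
  have hfix : LinearMap.ker (f - 1) = fixS f := by
    ext v
    rw [LinearMap.mem_ker, LinearMap.sub_apply, sub_eq_zero]
    exact Iff.rfl
  have h1 := LinearMap.finrank_range_add_finrank_ker (f - 1)
  rw [hfix] at h1
  have h2 := finrank_fix (f := f) (k := 1) hp hpF (by rwa [pow_one]) ⊤ (fun _ _ => trivial)
  rw [top_inf_eq, finrank_top] at h2
  have h3 : finrank F (fixS f) ≠ finrank F V := fun h => hf1 (fixS_eq_top_iff.1 (Submodule.eq_top_of_finrank_eq h))
  have h4 : finrank F V - finrank F (fixS f) = orderOf ((Fintype.card F : ℕ) : ZMod p) := by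
    obtain ⟨m, hm⟩ := h2
    have hm0 : m ≠ 0 := by
      rintro rfl
      omega
    have hm1 : m < 2 := by
      by_contra hcon
      have : orderOf ((Fintype.card F : ℕ) : ZMod p) * 2 ≤ orderOf ((Fintype.card F : ℕ) : ZMod p) * m :=
        Nat.mul_le_mul_left _ (by omega)
      omega
    have : m = 1 := by omega
    subst this
    omega
  have h5 : LinearMap.range (f - 1) ⊓ fixS f = ⊥ := by
    rw [eq_bot_iff]
    rintro x ⟨⟨w, hw⟩, hx⟩
    have hx' : f x = x := hx
    have hw' : f w = w + x := by
      rw [← hw, LinearMap.sub_apply, Module.End.one_apply]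
      abel
    have h6 : ∀ i : ℕ, (f ^ i) w = w + (i : F) • x := by
      intro i
      induction i with
      | zero => simp
      | succ i ih =>
        rw [pow_succ', Module.End.mul_apply, ih, map_add, map_smul, hx', hw', Nat.cast_succ, add_smul, one_smul]
        abel
    have h7 := h6 p
    rw [hf, Module.End.one_apply] at h7
    have h8 : (p : F) • x = 0 := by
      have := congrArg (fun t => t - w) h7
      simp only [sub_self, add_sub_cancel_left] at this
      exact this.symm
    rw [Submodule.mem_bot]
    exact (smul_eq_zero.1 h8).resolve_left (cast_ne_zero_of_not_dvd hp hpF)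
  refine ⟨by omega, h5, ?_⟩
  have h6 := Submodule.finrank_sup_add_finrank_inf_eq (LinearMap.range (f - 1)) (fixS f)
  rw [h5, finrank_bot] at h6
  exact Submodule.eq_top_of_finrank_eq (by omega)

variable {G : Type w} [Group G] [Finite G]

/-- **Centralizers of elements of prime order in isometry groups.** -/
theorem cent_le (φ : G →* (V →ₗ[F] V)) (hφ : Function.Injective φ) {B : V → V → F} (hB : Frm B)
    (hadd : ∀ x y z, B (x + y) z = B x z + B y z) (σ : F →+* F) (hσ : ∀ (c : F) x y, B (c • x) y = σ c * B x y)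
    (hGB : ∀ g u v, B (φ g u) (φ g v) = B u v) {p : ℕ} (hp : p.Prime) (hpF : ¬ p ∣ Fintype.card F)
    (h2e : finrank F V < 2 * orderOf ((Fintype.card F : ℕ) : ZMod p)) {z : G} (hz : orderOf z = p) {Q : ℕ}
    (hQ : Fintype.card F ^ orderOf ((Fintype.card F : ℕ) : ZMod p) ≤ Q ^ 2) :
    Nat.card (Subgroup.centralizer ({z} : Set G)) ≤ (Q + 1) * Nat.card (K1 φ z) := by
  classical
  have hf : φ z ^ p = 1 := by rw [← map_pow, ← hz, pow_orderOf_eq_one, map_one]
  have hf1 : φ z ≠ 1 := by
    intro h
    have h1 : z = 1 := hφ (by rw [h, map_one])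
    rw [h1, orderOf_one] at hz
    exact hp.one_lt.ne hz
  obtain ⟨hr1, hr2, hr3⟩ := range_facts hp hpF hf hf1 h2e
  set W := LinearMap.range (φ z - 1) with hW
  have he : 0 < orderOf ((Fintype.card F : ℕ) : ZMod p) := by omega
  -- invariance
  have hinv : ∀ g : G, g * z = z * g → ∀ w ∈ W, φ g w ∈ W := by
    rintro g hg _ ⟨v, rfl⟩
    refine ⟨φ g v, ?_⟩
    rw [LinearMap.sub_apply, Module.End.one_apply, LinearMap.sub_apply, Module.End.one_apply, map_sub,
      ← Module.End.mul_apply, ← Module.End.mul_apply, ← map_mul, ← map_mul, hg]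
  have hgg : ∀ g : G, ∀ v : V, φ g (φ g⁻¹ v) = v := by
    intro g v
    rw [← Module.End.mul_apply, ← map_mul, mul_inv_cancel, map_one, Module.End.one_apply]
  have hzi : z⁻¹ * z = z * z⁻¹ := by rw [inv_mul_cancel, mul_inv_cancel]
  let z1 : Module.End F W := (φ z).restrict (hinv z rfl)
  let z1' : Module.End F W := (φ z⁻¹).restrict (hinv z⁻¹ hzi)
  have : Nontrivial W := by
    rw [Submodule.nontrivial_iff_ne_bot]
    intro h
    rw [h, finrank_bot] at hr1
    omega
  have hcardW : Nat.card W = Fintype.card F ^ orderOf ((Fintype.card F : ℕ) : ZMod p) := by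
    rw [Module.natCard_eq_pow_finrank (K := F) (V := W), Nat.card_eq_fintype_card, hr1]
  have hS := card_isom_le (F := F) (W := W) (B := fun x y => B x y) (z := z1) (z' := z1') (Q := Q)
    (fun x y t => hadd _ _ _) (fun x y t => hB.add _ _ _) σ (fun c x y => hσ _ _ _) (fun c x y => hB.smul _ _ _)
    (by
      intro y hy
      apply Subtype.ext
      apply hB.nondeg
      intro v
      apply hB.symm
      have hv : v ∈ W ⊔ fixS (φ z) := by rw [hr3]; trivial
      obtain ⟨a, ha, c, hc, rfl⟩ := Submodule.mem_sup.1 hv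
      have h1 : B a y = 0 := hy ⟨a, ha⟩
      have h2 : B c y = 0 := by
        obtain ⟨t, ht⟩ := y.2
        rw [← ht, LinearMap.sub_apply, Module.End.one_apply]
        exact range_perp_fix hB (hGB z) hc t
      rw [hadd, h1, h2, add_zero])
    (by
      ext x
      exact hgg z x)
    (fun x y => hGB z x y)
    (by
      intro U hU
      have h1 := finrank_fix (f := φ z) (k := 1) hp hpF (by rwa [pow_one]) (U.map W.subtype) (by
        rintro _ ⟨u, hu, rfl⟩
        exact ⟨z1 u, hU u hu, rfl⟩)
      have h2 : U.map W.subtype ⊓ fixS (φ z) = ⊥ := by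
        rw [eq_bot_iff, ← hr2]
        refine inf_le_inf_right _ ?_
        rintro _ ⟨u, -, rfl⟩
        exact u.2
      have h3 : finrank F ↥(U.map W.subtype) = finrank F U :=
        (Submodule.equivMapOfInjective W.subtype W.subtype_injective U).finrank_eq.symm
      rw [h2, finrank_bot, Nat.sub_zero, h3] at h1
      have h4 : finrank F U ≤ finrank F W := Submodule.finrank_le U
      rcases Nat.eq_zero_or_pos (finrank F U) with h5 | h5
      · exact Or.inl (Submodule.finrank_eq_zero.1 h5)
      · right
        have h6 := Nat.le_of_dvd h5 h1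
        exact Submodule.eq_top_of_finrank_eq (by omega))
    (by rw [hcardW]; exact hQ)
  -- the action on `W`
  have hC : ∀ g : Subgroup.centralizer ({z} : Set G), (g : G) * z = z * g := fun g =>
    Subgroup.mem_centralizer_singleton_iff.1 g.2
  let ρ : Subgroup.centralizer ({z} : Set G) →* Module.End F W :=
    { toFun := fun g => (φ (g : G)).restrict (hinv g (hC g))
      map_one' := by
        ext x
        show φ ((1 : Subgroup.centralizer ({z} : Set G)) : G) x = x
        rw [Subgroup.coe_one, map_one]
        rfl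
      map_mul' := fun a b => by
        ext x
        show φ ((a * b : Subgroup.centralizer ({z} : Set G)) : G) x = φ (a : G) (φ (b : G) x)
        rw [Subgroup.coe_mul, map_mul]
        rfl }
  let ρu := ρ.toHomUnits
  have h1 : Nat.card ρu.range ≤ Q + 1 := by
    refine le_trans ?_ hS
    have : Finite (Module.End F W) := by
      have : Finite W := Module.finite_of_finite F
      exact Module.finite_of_finite F
    refine Nat.card_le_card_of_injective (fun u => ⟨((u : (Module.End F W)ˣ) : Module.End F W), ?_, ?_⟩) ?_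
    · obtain ⟨g, hg⟩ := u.2
      rw [← hg]
      ext x
      show φ (g : G) (φ z x) = φ z (φ (g : G) x)
      rw [← Module.End.mul_apply, ← map_mul, hC g, map_mul]
      rfl
    · intro x y
      obtain ⟨g, hg⟩ := u.2
      rw [← hg]
      exact hGB g x y
    · intro a b hab
      apply Subtype.ext
      apply Units.ext
      have := congrArg Subtype.val hab
      exact this
  have h2 : Nat.card ρu.ker ≤ Nat.card (K1 φ z) := by
    refine Nat.card_le_card_of_injective (fun g => ⟨((g : Subgroup.centralizer ({z} : Set G)) : G), hC g, ?_⟩) ?_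
    · intro v
      have h3 : ρu g = 1 := g.2
      have h4 : ρ g = 1 := congrArg Units.val h3
      have h5 : ∀ x : W, φ ((g : Subgroup.centralizer ({z} : Set G)) : G) x = x := fun x =>
        congrArg Subtype.val (LinearMap.congr_fun h4 x)
      exact h5 ⟨φ z v - v, v, rfl⟩
    · intro a b hab
      apply Subtype.ext
      apply Subtype.ext
      have := congrArg Subtype.val hab
      exact this
  have h3 := Subgroup.card_mul_index ρu.ker
  rw [Subgroup.index_ker] at h3
  rw [← h3, mul_comm]
  exact Nat.mul_le_mul h1 h2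

end

end Cfsg.Agent.H489.AS
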