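import Mathlib
import Cfsg.Agent.H489.AS.ExcBase
import Cfsg.Agent.H585.SuG2
import Cfsg.Agent.H599.IdxG2
import Cfsg.Agent.H967.CopSz
import Cfsg.Agent.S2121

/-!
# S3943: the groups `G₂(q)` (helper489)
-/

set_option autoImplicit false

universe u

namespace Cfsg.Agent.H489.AS

open Subgroup Cfsg.Lie Cfsg.Agent.H465.SU Cfsg.Agent.H965.AS Cfsg.Agent.H965.SU

/-- the group itself -/
theorem as2_g2_aux {F : Type} [Field F] [Fintype F] (h3 : 3 ≤ Fintype.card F)
    (hs : IsSimpleGroup ↥(chevG2.group F)) (hna : ¬ IsMulCommutative ↥(chevG2.group F)) :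
    AS2 ↥(chevG2.group F) := by
  have hfin : Finite ↥(chevG2.group F) := by
    have : Finite (GL chevG2.Idx F) := inferInstance
    infer_instance
  obtain ⟨q, hF⟩ : ∃ q, Fintype.card F = q := ⟨_, rfl⟩
  obtain ⟨r, a, y, hr, h7, ha, hy, hfull, hsu, ⟨p, f, hp, hqf, hrf⟩, hor⟩ := H585.SuG2.resultE (F := F) (by omega)
  have hcard := Cfsg.Agent.S1059.result (F := F) hF
  have hpf : Fact p.Prime := ⟨hp⟩
  have hcp : CharP F p := H967.CopSz.charP_of_card hp hqf
  have hout := Cfsg.Agent.S2121.result (F := F) p f hqf (by rw [← hqf]; exact h3)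
  rw [hF] at h3 hor hqf
  have hrow : SURow ↥(chevG2.group F) r a y :=
    { hp := hr
      odd := by omega
      ha := ha
      ord := hy
      su := hsu
      full := hfull
      inn := fun β hβ => inner_of_card hr (fun h1 => by
        rw [hout] at h1
        split_ifs at h1 with h4
        · rcases hr.dvd_mul.1 h1 with h5 | h5
          · have := Nat.le_of_dvd (by norm_num) h5
            omega
          · exact hrf h5
        · exact hrf h1) β hβ }
  -- the prime `r`
  have hrG : r ∣ Nat.card ↥(chevG2.group F) := by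
    have h1 : orderOf y ∣ Nat.card ↥(chevG2.group F) := orderOf_dvd_natCard _
    rw [hy] at h1
    exact (dvd_pow_self r (by omega)).trans h1
  have hq1 : 1 ≤ q := by omega
  have hle : q ≤ q ^ 2 := by nlinarith
  have key : r ∣ q ^ 2 + q + 1 ∨ r ∣ q ^ 2 - q + 1 := by
    rcases hor with h1 | h1
    · subst h1
      have hrq : ¬ r ∣ q := by
        intro h2
        apply hfull
        rw [hcard]
        exact (((pow_dvd_pow_of_dvd h2 2).trans (pow_dvd_pow q (by norm_num : 2 ≤ 6))).mul_right _).mul_right _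
      have e1 : q ^ 6 - 1 = (q ^ 2 - 1) * ((q ^ 2 + q + 1) * (q ^ 2 - q + 1)) := by
        have h1 : 1 ≤ q ^ 6 := Nat.one_le_pow _ _ hq1
        have h2 : 1 ≤ q ^ 2 := Nat.one_le_pow _ _ hq1
        zify [h1, h2, hle]
        ring
      have hr2 : ¬ r ∣ q ^ 2 - 1 := by
        intro h2
        apply hfull
        rw [hcard, e1]
        have h3 : r ^ (1 + 1) ∣ (q ^ 2 - 1) * (q ^ 2 - 1) := by
          rw [show 1 + 1 = 2 from rfl, pow_two]
          exact mul_dvd_mul h2 h2
        refine h3.trans ⟨q ^ 6 * ((q ^ 2 + q + 1) * (q ^ 2 - q + 1)), by ring⟩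
      rw [hcard, e1] at hrG
      rcases hr.dvd_mul.1 hrG with h2 | h2
      · rcases hr.dvd_mul.1 h2 with h2 | h2
        · exact absurd (hr.dvd_of_dvd_pow h2) hrq
        · exact absurd h2 hr2
      · rcases hr.dvd_mul.1 h2 with h2 | h2
        · exact absurd h2 hr2
        · exact hr.dvd_mul.1 h2
    · right
      exact H585.SuPhi.dvd6 (N := q ^ 2 - q + 1) (by push_cast [Nat.cast_sub hle]; ring) r hr h1
  refine as2_of_cent hna hrow (by omega) (c := q ^ 2 + q + 1) (b := q ^ 2) (fun u hu => ?_) (fun H hH => ?_) ?_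
  · rcases key with h1 | h1
    · obtain ⟨T, h2, h3, h4, h5, h6⟩ := H585.SuG2.torus3 hF (N := q ^ 2 + q + 1) (by push_cast; ring) hr h7 h1
      rw [one_mul] at h3 h4
      rw [one_mul] at h4
      refine (cent_le_of_torus hr (h1.trans h4) h6 hu).trans (Nat.le_of_dvd (by omega) h3)
    · obtain ⟨T, h2, h3, h4, h5, h6⟩ := H585.SuG2.torus6 hF (N := q ^ 2 - q + 1)
        (by push_cast [Nat.cast_sub hle]; ring) hr h7 h1
      rw [one_mul] at h3 h4
      rw [one_mul] at h4
      refine (cent_le_of_torus hr (h1.trans h4) h6 hu).trans ((Nat.le_of_dvd (by omega) h3).trans (by omega))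
  · have h1 := H599.IdxG2.sq_le hs H hH
    rwa [hF] at h1
  · have h1 : 7 * q ^ 2 ≤ r * q ^ 2 := Nat.mul_le_mul_right _ h7
    nlinarith

/-- **The groups `G₂(q)`.** -/
theorem as2_G2 {K : Type u} [Group K] [Finite K] [IsSimpleGroup K] (hna : ¬ IsMulCommutative K)
    (h : IsoChevG2 K) : AS2 K := by
  obtain ⟨F, _, _, h3, ⟨e⟩⟩ := h
  have hs : IsSimpleGroup ↥(chevG2.group F) := e.symm.isSimpleGroup
  exact AS2.congr e.symm (as2_g2_aux h3 hs fun h1 => hna ⟨⟨fun a b => e.injective (by
    rw [map_mul, map_mul]; exact h1.is_comm.comm _ _)⟩⟩)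

end Cfsg.Agent.H489.AS
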