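import Mathlib
import Cfsg.Agent.H489.AS.ExcBase
import Cfsg.Agent.H465.SzRee
import Cfsg.Agent.H934.IdxSz
import Cfsg.Agent.H55.OutGen
import Cfsg.Agent.S0333
import Cfsg.Agent.S2126

/-!
# S3943: the Suzuki groups (helper489)
-/

set_option autoImplicit false

universe u

namespace Cfsg.Agent.H489.AS

open Subgroup Cfsg.Lie Cfsg.Agent.H465.SU Cfsg.Agent.H965.AS Cfsg.Agent.H965.SU

/-- a solvably unique element and cyclic Sylow subgroups give a row -/
theorem surow_of_cyclic {G : Type*} [Group G] [Finite G] {p : ℕ} (hp : p.Prime) (hp2 : p ≠ 2)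
    (hcyc : ∀ P : Sylow p G, IsCyclic P) {y : G} (h : SUel p y)
    (hinn : ∀ b : MulAut G, (∃ k, orderOf b = p ^ k) → ∃ g : G, b = MulAut.conj g) :
    ∃ (a : ℕ) (y : G), SURow G p a y := by
  have : Fact p.Prime := ⟨hp⟩
  obtain ⟨hy1, ⟨k, hk⟩, hu⟩ := h
  have hz : IsPGroup p (zpowers y) := IsPGroup.of_card (n := k) (by rw [Nat.card_zpowers, hk])
  obtain ⟨P, hP⟩ := hz.exists_le_sylow
  obtain ⟨g, hg⟩ := (hcyc P).exists_generator
  have hgo : orderOf (g : G) = p ^ (Nat.card G).factorization p := by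
    rw [orderOf_coe, orderOf_eq_card_of_forall_mem_zpowers hg, P.card_eq_multiplicity]
  have hyg : y ∈ zpowers (g : G) := by
    have h1 : y ∈ (P : Subgroup G) := hP (mem_zpowers y)
    obtain ⟨i, hi⟩ := mem_zpowers_iff.1 (hg ⟨y, h1⟩)
    refine mem_zpowers_iff.2 ⟨i, ?_⟩
    rw [← SubgroupClass.coe_zpow, hi]
  refine ⟨(Nat.card G).factorization p, g,
    { hp := hp
      odd := hp2
      ha := ?_
      ord := hgo
      su := ⟨?_, ⟨_, hgo⟩, ?_⟩
      full := Nat.pow_succ_factorization_not_dvd Nat.card_pos.ne' hp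
      inn := hinn }⟩
  · by_contra h0
    have h1 : (Nat.card G).factorization p = 0 := by omega
    rw [h1, pow_zero, orderOf_eq_one_iff] at hgo
    rw [hgo, zpowers_one_eq_bot, mem_bot] at hyg
    exact hy1 hyg
  · intro h0
    rw [h0, zpowers_one_eq_bot, mem_bot] at hyg
    exact hy1 hyg
  · intro M hM hgM A B hA hB hAc hBc
    exact hu M hM ((zpowers_le.2 hgM) hyg) A B hA hB hAc hBc

theorem sz_arith {q t p : ℕ} (h8 : 8 ≤ q) (htq : t ≤ q) (hp : 13 ≤ p) : 2 * (q + t + 1) < p * q := by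
  have h1 : 13 * q ≤ p * q := Nat.mul_le_mul_right _ hp
  omega

/-- the group itself -/
theorem as2_sz_aux {F : Type} [Field F] [Fintype F] {m : ℕ} (hm : 1 ≤ m) (hF : Fintype.card F = 2 ^ (2 * m + 1))
    (f : Cfsg.Sz F m ≃* ↥(Cfsg.Lie.Sz F (2 ^ (m + 1)))) (hs : IsSimpleGroup (Cfsg.Sz F m))
    (hna : ¬ IsMulCommutative (Cfsg.Sz F m)) : AS2 (Cfsg.Sz F m) := by
  obtain ⟨p, y, hp, hp13, hord, hy, hSU⟩ := H465.SzRee.row_sz hm hF
  have hpf : Fact p.Prime := ⟨hp⟩
  have hcard := Cfsg.Agent.S0324.result hm hF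
  have hout := Cfsg.Agent.S2126.result hm hF
  have htor := Cfsg.Agent.S0333.result hm hF
  have hs' : IsSimpleGroup ↥(Cfsg.Lie.Sz F (2 ^ (m + 1))) := f.symm.isSimpleGroup
  have hfin : Finite (Cfsg.Sz F m) := by
    apply Nat.finite_of_card_ne_zero
    rw [hcard]
    have h1 : 8 ≤ 2 ^ (2 * m + 1) := by
      have : 2 ^ 3 ≤ 2 ^ (2 * m + 1) := Nat.pow_le_pow_right (by norm_num) (by omega)
      omega
    have : 2 ^ (2 * m + 1) - 1 ≠ 0 := by omega
    positivity
  have hlow : 4 * (2 * m + 1) ≤ p - 1 := by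
    have h2 : ¬ p ∣ 2 := fun h => by
      have := Nat.le_of_dvd (by norm_num) h
      omega
    have h1 := Lib.Zsigmondy.orderOf_dvd_pred hp h2
    rw [hord] at h1
    exact Nat.le_of_dvd (by omega) h1
  obtain ⟨a, y', hrow⟩ := surow_of_cyclic hp (by omega) (fun P => Cfsg.Agent.S0331.result hm hF (by omega) P) hSU
    (fun β hβ => inner_of_card hp (fun h1 => by
      rw [H55.OutGen.card_out_congr f, hout] at h1
      have := Nat.le_of_dvd (by omega) h1
      omega) β hβ)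
  -- `p ∣ q² + 1`
  have hpq : p ∣ (2 ^ (2 * m + 1)) ^ 2 + 1 := by
    have h1 : p ∣ 2 ^ (4 * (2 * m + 1)) - 1 := (Lib.Zsigmondy.dvd_pow_sub_one_iff (by norm_num) _).2 (by rw [hord])
    have h2 : 2 ^ (4 * (2 * m + 1)) - 1 = ((2 ^ (2 * m + 1)) ^ 2 + 1) * (2 ^ (2 * (2 * m + 1)) - 1) := by
      have e1 : 2 ^ (4 * (2 * m + 1)) = ((2 ^ (2 * m + 1)) ^ 2) ^ 2 := by ring
      have e2 : 2 ^ (2 * (2 * m + 1)) = (2 ^ (2 * m + 1)) ^ 2 := by ring
      rw [e1, e2]
      have := Nat.sq_sub_sq ((2 ^ (2 * m + 1)) ^ 2) 1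
      rwa [one_pow] at this
    rw [h2] at h1
    rcases (hp.dvd_mul).1 h1 with h3 | h3
    · exact h3
    · exact absurd h3 (H465.SzRee.not_dvd_of_ord le_rfl hord (fun h4 => by
        have := Nat.le_of_dvd (by omega) h4
        omega))
  set q := 2 ^ (2 * m + 1) with hq
  set t := 2 ^ (m + 1) with ht
  have hq8 : 8 ≤ q := by
    have : 2 ^ 3 ≤ 2 ^ (2 * m + 1) := Nat.pow_le_pow_right (by norm_num) (by omega)
    omega
  have htq : t ≤ q := Nat.pow_le_pow_right (by norm_num) (by omega)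
  have htt : t ^ 2 = 2 * q := by
    rw [ht, hq]
    ring
  have hprod : q ^ 2 + 1 = (q + t + 1) * (q - t + 1) := by
    have : (t : ℤ) ^ 2 = 2 * q := by exact_mod_cast htt
    zify [htq]
    linear_combination this
  rw [hprod] at hpq
  refine as2_of_cent hna hrow (by omega) (c := q + t + 1) (b := q) (fun u hu => ?_) (fun H hH => ?_) ?_
  · rcases (hp.dvd_mul).1 hpq with h1 | h1
    · obtain ⟨U, hUc, hU, hUu, -⟩ := htor (q + t + 1) (by simp)
      refine (cent_le_of_torus hp (by rw [hU]; exact h1) (fun t' ht' hto => (hUu t' ht' ?_).le) hu).trans hU.le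
      rintro rfl
      rw [orderOf_one] at hto
      omega
    · obtain ⟨U, hUc, hU, hUu, -⟩ := htor (q - t + 1) (by simp)
      refine (cent_le_of_torus hp (by rw [hU]; exact h1) (fun t' ht' hto => (hUu t' ht' ?_).le) hu).trans
        (hU.le.trans (Nat.add_le_add_right ((Nat.sub_le q t).trans (Nat.le_add_right q t)) 1))
      rintro rfl
      rw [orderOf_one] at hto
      omega
  · have h1 : (H.comap f.symm.toMonoidHom).index = H.index :=
      Subgroup.index_comap_of_surjective H f.symm.surjective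
    rw [← h1, ← hF]
    refine H934.IdxSz.card_le_index hF hs' _ fun h2 => hH ?_
    rw [eq_top_iff]
    intro x _
    have h3 : f x ∈ H.comap f.symm.toMonoidHom := by rw [h2]; trivial
    have h4 : f.symm (f x) ∈ H := h3
    rwa [f.symm_apply_apply] at h4
  · exact sz_arith hq8 htq hp13

/-- **The Suzuki groups.** -/
theorem as2_Sz {K : Type u} [Group K] [Finite K] [IsSimpleGroup K] (hna : ¬ IsMulCommutative K)
    (h : IsoSuzuki K) : AS2 K := by
  obtain ⟨F, _, _, m, hm, hF, ⟨e⟩⟩ := h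
  obtain ⟨e'⟩ := Cfsg.Agent.OddCyclic.ClaimC.SzIso.iso (F := F) hm hF
  have f : Cfsg.Sz F m ≃* K := e'.trans e.symm
  have hs : IsSimpleGroup (Cfsg.Sz F m) := f.isSimpleGroup
  exact AS2.congr f (as2_sz_aux hm hF e' hs fun h1 => hna ⟨⟨fun a b => f.symm.injective (by
    rw [map_mul, map_mul]; exact h1.is_comm.comm _ _)⟩⟩)

end Cfsg.Agent.H489.AS
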