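import Mathlib
import Cfsg.Agent.H489.AS.RowSz
import Cfsg.Agent.H934.IdxRee
import Cfsg.Agent.LieRecognition.ReeSetup
import Cfsg.Agent.LieRecognition.ReeFinal
import Cfsg.Agent.LieRecognition.ReeTorusTw
import Cfsg.Agent.S1116
import Cfsg.Agent.S2127

/-!
# S3943: the Ree groups (helper489)
-/

set_option autoImplicit false

universe u

namespace Cfsg.Agent.H489.AS

open Subgroup Cfsg.Lie Cfsg.Agent.H465.SU Cfsg.Agent.H465.SzRee Cfsg.Agent.H965.AS Cfsg.Agent.H965.SU
  Cfsg.Agent.LieRecognition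

/-- the row of helper465 with its prime -/
theorem row_ree {K : Type*} [Field K] [Fintype K] {m : ℕ} (hm : 1 ≤ m) (hK : Fintype.card K = 3 ^ (2 * m + 1)) :
    ∃ (p : ℕ) (y : ↥(Cfsg.Lie.twistedG2 K (3 ^ m))), p.Prime ∧ 19 ≤ p ∧ orderOf ((3 : ℕ) : ZMod p) = 6 * (2 * m + 1) ∧
      (∀ P : Sylow p ↥(Cfsg.Lie.twistedG2 K (3 ^ m)), IsCyclic P) ∧
      p ∣ (3 ^ (2 * m + 1) + 3 ^ (m + 1) + 1) * (3 ^ (2 * m + 1) - 3 ^ (m + 1) + 1) ∧ SUel p y := by
  obtain ⟨p, hp, hord⟩ := Lib.Zsigmondy.exists_prime_orderOf (a := 3) (n := 6 * (2 * m + 1)) (by norm_num) (by omega)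
    (by omega) (by omega)
  have : Fact p.Prime := ⟨hp⟩
  have hcard := Cfsg.Agent.S1069.result (K := K) hK
  have hS := Cfsg.Agent.S1158.result hm hK
  set q := 3 ^ (2 * m + 1) with hq
  set t := 3 ^ (m + 1) with ht
  have hq27 : 27 ≤ q := by
    have : 3 ^ 3 ≤ 3 ^ (2 * m + 1) := Nat.pow_le_pow_right (by norm_num) (by omega)
    omega
  have htq : t ≤ q := Nat.pow_le_pow_right (by norm_num) (by omega)
  have htt : t ^ 2 = 3 * q := by
    rw [ht, hq]
    ring
  have hp3' : ¬ p ∣ 3 := by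
    intro h
    have h2 : p = 3 := (Nat.prime_dvd_prime_iff_eq hp Nat.prime_three).1 h
    subst h2
    have h3 : ((3 : ℕ) : ZMod 3) = 0 := ZMod.natCast_self 3
    rw [h3] at hord
    have h4 : orderOf (0 : ZMod 3) = 0 := by
      rw [orderOf_eq_zero_iff']
      intro n hn h5
      rw [zero_pow hn.ne'] at h5
      exact zero_ne_one h5
    omega
  have hp3 : p ≠ 3 := fun h => hp3' (h ▸ dvd_rfl)
  have hp19 : 19 ≤ p := by
    have h1 := Lib.Zsigmondy.orderOf_dvd_pred hp hp3'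
    rw [hord] at h1
    have h2 := Nat.le_of_dvd (by have := hp.two_le; omega) h1
    omega
  have hprod : q ^ 3 + 1 = (q + 1) * ((q + t + 1) * (q - t + 1)) := by
    have : (t : ℤ) ^ 2 = 3 * q := by exact_mod_cast htt
    zify [htq]
    linear_combination (q + 1 : ℤ) * this
  have hfin : Finite ↥(Cfsg.Lie.twistedG2 K (3 ^ m)) := by
    apply Nat.finite_of_card_ne_zero
    rw [hcard]
    have : q - 1 ≠ 0 := by omega
    positivity
  have hn1 : ¬ p ∣ q - 1 := by
    have h1 := not_dvd_of_ord (a := 3) (j := 2 * m + 1) (by norm_num) hord (fun h => by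
      have := Nat.le_of_dvd (by omega) h
      omega)
    exact h1
  have hn2 : ¬ p ∣ q ^ 2 - 1 := by
    have h1 := not_dvd_of_ord (a := 3) (j := 2 * (2 * m + 1)) (by norm_num) hord (fun h => by
      have := Nat.le_of_dvd (by omega) h
      omega)
    have e : 3 ^ (2 * (2 * m + 1)) = q ^ 2 := by rw [hq]; ring
    rwa [e] at h1
  have hn3 : ¬ p ∣ q + 1 := by
    intro h
    apply hn2
    have : q ^ 2 - 1 = (q + 1) * (q - 1) := by
      have := Nat.sq_sub_sq q 1
      rwa [one_pow] at this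
    rw [this]
    exact h.mul_right _
  -- `p ∣ q³ + 1`
  have hpq : p ∣ q ^ 3 + 1 := by
    have h1 : p ∣ 3 ^ (6 * (2 * m + 1)) - 1 := (Lib.Zsigmondy.dvd_pow_sub_one_iff (by norm_num) _).2 (by rw [hord])
    have h2 : 3 ^ (6 * (2 * m + 1)) - 1 = (q ^ 3 + 1) * (3 ^ (3 * (2 * m + 1)) - 1) := by
      have e1 : 3 ^ (6 * (2 * m + 1)) = (q ^ 3) ^ 2 := by rw [hq]; ring
      have e2 : 3 ^ (3 * (2 * m + 1)) = q ^ 3 := by rw [hq]; ring
      rw [e1, e2]
      have := Nat.sq_sub_sq (q ^ 3) 1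
      rwa [one_pow] at this
    rw [h2] at h1
    rcases (hp.dvd_mul).1 h1 with h3 | h3
    · exact h3
    · exact absurd h3 (not_dvd_of_ord (by norm_num) hord (fun h4 => by
        have := Nat.le_of_dvd (by omega) h4
        omega))
  -- cyclic Sylow subgroups
  have hcyc : ∀ P : Sylow p ↥(Cfsg.Lie.twistedG2 K (3 ^ m)), IsCyclic P := by
    intro P
    have hpt : p ∣ q + t + 1 ∨ p ∣ q - t + 1 := by
      rw [hprod] at hpq
      rcases (hp.dvd_mul).1 hpq with h | h
      · exact absurd h hn3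
      · exact (hp.dvd_mul).1 h
    have hpq0 : ¬ p ∣ q := fun h => hp3' (hp.dvd_of_dvd_pow (hq ▸ h))
    have hboth : ¬ (p ∣ q + t + 1 ∧ p ∣ q - t + 1) := by
      rintro ⟨ha, hb⟩
      have h3 : p ∣ (q + t + 1) - (q - t + 1) := Nat.dvd_sub ha hb
      have h4 : (q + t + 1) - (q - t + 1) = 2 * t := by omega
      rw [h4] at h3
      rcases (hp.dvd_mul).1 h3 with h5 | h5
      · have := Nat.le_of_dvd (by norm_num) h5
        omega
      · exact hp3' (hp.dvd_of_dvd_pow (ht ▸ h5))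
    rcases hpt with h | h
    · obtain ⟨A, hAc, hAn, hAN, hAC⟩ := hS (q + t + 1, 6 * (q + t + 1)) (by simp)
      refine cyclic_of_hall hAc ?_ P
      have hc1 : Nat.card ↥(Cfsg.Lie.twistedG2 K (3 ^ m)) = (q + t + 1) * (q ^ 3 * (q - 1) * (q + 1) * (q - t + 1)) := by
        rw [hcard, hprod]; ring
      have h3 := Subgroup.card_mul_index A
      rw [hAn, hc1] at h3
      rw [Nat.eq_of_mul_eq_mul_left (by omega) h3]
      intro h4
      rcases (hp.dvd_mul).1 h4 with h4 | h4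
      · rcases (hp.dvd_mul).1 h4 with h4 | h4
        · rcases (hp.dvd_mul).1 h4 with h4 | h4
          · exact hpq0 (hp.dvd_of_dvd_pow h4)
          · exact hn1 h4
        · exact hn3 h4
      · exact hboth ⟨h, h4⟩
    · obtain ⟨A, hAc, hAn, hAN, hAC⟩ := hS (q - t + 1, 6 * (q - t + 1)) (by simp)
      refine cyclic_of_hall hAc ?_ P
      have hc1 : Nat.card ↥(Cfsg.Lie.twistedG2 K (3 ^ m)) = (q - t + 1) * (q ^ 3 * (q - 1) * (q + 1) * (q + t + 1)) := by
        rw [hcard, hprod]; ring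
      have h3 := Subgroup.card_mul_index A
      rw [hAn, hc1] at h3
      rw [Nat.eq_of_mul_eq_mul_left (by omega) h3]
      intro h4
      rcases (hp.dvd_mul).1 h4 with h4 | h4
      · rcases (hp.dvd_mul).1 h4 with h4 | h4
        · rcases (hp.dvd_mul).1 h4 with h4 | h4
          · exact hpq0 (hp.dvd_of_dvd_pow h4)
          · exact hn1 h4
        · exact hn3 h4
      · exact hboth ⟨h4, h⟩
  obtain ⟨y, hy⟩ := exists_prime_orderOf_dvd_card' (G := ↥(Cfsg.Lie.twistedG2 K (3 ^ m))) p (by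
    rw [hcard]
    exact hpq.mul_left _)
  have hpt : p ∣ (q + t + 1) * (q - t + 1) := by
    have h1 := hpq
    rw [hprod] at h1
    exact ((hp.dvd_mul).1 h1).resolve_left hn3
  refine ⟨p, y, hp, hp19, hord, hcyc, hpt, ?_⟩
  have hchar : CharP K 3 := by
    obtain ⟨r, hr⟩ := CharP.exists K
    have hrp : r.Prime := (CharP.char_is_prime_or_zero K r).resolve_right (CharP.char_ne_zero_of_finite K r)
    have : Fact r.Prime := ⟨hrp⟩
    obtain ⟨n, -, hn⟩ := FiniteField.card K r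
    rw [hK, hq] at hn
    have h1 : r ∣ 3 ^ (2 * m + 1) := by rw [hn]; exact dvd_pow_self r n.ne_zero
    have h2 : r = 3 := (Nat.prime_dvd_prime_iff_eq hrp Nat.prime_three).1 (hrp.dvd_of_dvd_pow h1)
    rwa [h2] at hr
  refine SUel.of_ord (F := K) (r := 3) (N := 3 * (2 * m + 1))
    ((glRep _ K).comp (Cfsg.Lie.twistedG2 K (3 ^ m)).subtype)
    ((glRep_injective _ K).comp (Cfsg.Lie.twistedG2 K (3 ^ m)).subtype_injective) Nat.prime_three hp (by omega)
    hp3.symm ?_ ?_ hcyc ?_ hy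
  · -- the 3-part of the order
    rw [hcard]
    intro h
    have h3q : 3 ∣ q := by rw [hq]; exact dvd_pow_self 3 (by omega)
    have hco : Nat.Coprime (3 ^ (3 * (2 * m + 1) + 1)) ((q - 1) * (q ^ 3 + 1)) := by
      apply Nat.Coprime.pow_left
      apply Nat.Coprime.mul_right
      · rw [Nat.Prime.coprime_iff_not_dvd Nat.prime_three]
        omega
      · rw [Nat.Prime.coprime_iff_not_dvd Nat.prime_three]
        intro h4
        have h5 : 3 ∣ q ^ 3 := h3q.trans (dvd_pow_self q (by norm_num))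
        omega
    have h3 : 3 ^ (3 * (2 * m + 1) + 1) ∣ q ^ 3 := by
      refine hco.dvd_of_dvd_mul_right ?_
      convert h using 1
      ring
    have h4 : q ^ 3 = 3 ^ (3 * (2 * m + 1)) := by rw [hq]; ring
    rw [h4, Nat.pow_dvd_pow_iff_le_right (by norm_num)] at h3
    omega
  · rw [hord]; omega
  · rw [Module.finrank_fintype_fun_eq_card]
    have : Fintype.card Cfsg.Lie.chevG2.Idx = 14 := by decide
    omega


theorem ree_arith {q t p b : ℕ} (h27 : 27 ≤ q) (htq : t ≤ q) (hp : 19 ≤ p) (hb : q ≤ 2 * b) :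
    2 * (q + t + 1) < p * b := by
  have h1 : 19 * b ≤ p * b := Nat.mul_le_mul_right _ hp
  omega

/-- the group itself -/
theorem as2_ree_aux {F : Type} [Field F] [Fintype F] {m : ℕ} (hm : 1 ≤ m) (hF : Fintype.card F = 3 ^ (2 * m + 1))
    (hs : IsSimpleGroup ↥(twistedG2 F (3 ^ m))) (hna : ¬ IsMulCommutative ↥(twistedG2 F (3 ^ m))) :
    AS2 ↥(twistedG2 F (3 ^ m)) := by
  obtain ⟨p, y, hp, hp19, hord, hcyc, hpq, hSU⟩ := row_ree hm hF
  have hpf : Fact p.Prime := ⟨hp⟩
  have hfin : Finite ↥(twistedG2 F (3 ^ m)) := by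
    have : Finite (GL chevG2.Idx F) := inferInstance
    infer_instance
  have hout := Cfsg.Agent.S2127.result hm hF
  have hlow : 6 * (2 * m + 1) ≤ p - 1 := by
    have h2 : ¬ p ∣ 3 := fun h => by
      have := Nat.le_of_dvd (by norm_num) h
      omega
    have h1 := Lib.Zsigmondy.orderOf_dvd_pred hp h2
    rw [hord] at h1
    exact Nat.le_of_dvd (by omega) h1
  obtain ⟨a, y', hrow⟩ := surow_of_cyclic hp (by omega) hcyc hSU
    (fun β hβ => inner_of_card hp (fun h1 => by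
      rw [hout] at h1
      have := Nat.le_of_dvd (by omega) h1
      omega) β hβ)
  have D := ReeFinal.data hF
  obtain ⟨A, B, -, -, cA, cB, nA, nB, zA, zB, -⟩ := ReeSetup.exists_tori D hm hF (Cfsg.Agent.S1116.result hF hm)
    (fun x hx hx1 => ReeTorusTw.isCyclic_centralizer hF hx hx1)
  have hq27 : 27 ≤ 3 ^ (2 * m + 1) := by
    have : 3 ^ 3 ≤ 3 ^ (2 * m + 1) := Nat.pow_le_pow_right (by norm_num) (by omega)
    omega
  have htq : 3 ^ (m + 1) ≤ 3 ^ (2 * m + 1) := Nat.pow_le_pow_right (by norm_num) (by omega)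
  have hidx : ∀ H : Subgroup ↥(twistedG2 F (3 ^ m)), H ≠ ⊤ → (3 ^ (2 * m + 1) + 1) / 2 ≤ H.index := by
    intro H hH
    have h1 := H934.IdxRee.card_le_two_mul hF hs H hH
    rw [hF] at h1
    omega
  refine as2_of_cent hna hrow (by omega) (c := 3 ^ (2 * m + 1) + 3 ^ (m + 1) + 1) (b := (3 ^ (2 * m + 1) + 1) / 2)
    (fun u hu => ?_) hidx (ree_arith hq27 htq hp19 (by omega))
  rcases (hp.dvd_mul).1 hpq with h1 | h1
  · refine (cent_le_of_torus hp (by rw [cB]; exact h1) (fun t' ht' hto => (zB t' ht' ?_).le) hu).trans cB.le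
    rintro rfl
    rw [orderOf_one] at hto
    omega
  · refine (cent_le_of_torus hp (by rw [cA]; exact h1) (fun t' ht' hto => (zA t' ht' ?_).le) hu).trans
      (cA.le.trans (Nat.add_le_add_right ((Nat.sub_le _ _).trans (Nat.le_add_right _ _)) 1))
    rintro rfl
    rw [orderOf_one] at hto
    omega

/-- **The Ree groups.** -/
theorem as2_Ree {K : Type u} [Group K] [Finite K] [IsSimpleGroup K] (hna : ¬ IsMulCommutative K)
    (h : IsoRee K) : AS2 K := by
  obtain ⟨F, _, _, m, hm, hF, ⟨e⟩⟩ := h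
  have hs : IsSimpleGroup ↥(twistedG2 F (3 ^ m)) := e.symm.isSimpleGroup
  exact AS2.congr e.symm (as2_ree_aux hm hF hs fun h1 => hna ⟨⟨fun a b => e.injective (by
    rw [map_mul, map_mul]; exact h1.is_comm.comm _ _)⟩⟩)

end Cfsg.Agent.H489.AS
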