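import Mathlib
import Cfsg.Agent.H489.AS.ExcBase
import Cfsg.Agent.H965.SUTwF4
import Cfsg.Agent.H934.HeisTwF4

/-!
# S3943: the groups `²F₄(q)` (helper489)
-/

set_option autoImplicit false

universe u

namespace Cfsg.Agent.H489.AS

open Subgroup Cfsg Cfsg.Lie Cfsg.Agent.H465.SU Cfsg.Agent.H568 Cfsg.Agent.H798.RowTw Cfsg.Agent.H965.AS
  Cfsg.Agent.H965.SU
open Cfsg.Agent.H967.CopMat Cfsg.Agent.H967.CopSz

/-- **The row of the large Ree groups.** -/
theorem row_twF4 {F : Type} [Field F] [Fintype F] {m : ℕ} (hm : 1 ≤ m) (hF : Fintype.card F = 2 ^ (2 * m + 1))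
    (hs : IsSimpleGroup ↥(twistedF4 F (2 ^ m))) :
    ∃ (p a : ℕ) (y : ↥(twistedF4 F (2 ^ m))), SURow _ p a y ∧ 37 ≤ p ∧
      ∀ u : ↥(twistedF4 F (2 ^ m)), orderOf u = p → Nat.card (centralizer ({u} : Set ↥(twistedF4 F (2 ^ m)))) ≤
        (2 ^ (2 * m + 1)) ^ 4 := by
  have hcard := Cfsg.Agent.S1068.result hF
  have hF' : Nat.card F = 2 ^ (2 * m + 1) := by rw [Nat.card_eq_fintype_card, hF]
  have h2f : Fact (Nat.Prime 2) := ⟨Nat.prime_two⟩
  have hc2 : CharP F 2 := charP_of_card Nat.prime_two hF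
  obtain ⟨l, hl, hE, hdv, hl2⟩ := Cfsg.Agent.Lib.Zsigmondy.exists_primitive (a := 2) (n := 12 * (2 * m + 1)) le_rfl
    (by omega) (by omega) (by omega)
  have hlle : 12 * (2 * m + 1) ≤ l - 1 := Nat.le_of_dvd (by have := hl.two_le; omega) hdv
  have hq1 : 1 ≤ 2 ^ (2 * m + 1) := Nat.one_le_pow _ _ (by norm_num)
  have hldvd : l ∣ (2 ^ (2 * m + 1)) ^ 6 + 1 := by
    have h1 : l ∣ 2 ^ (12 * (2 * m + 1)) - 1 := (hE _).2 dvd_rfl
    have h2 : 2 ^ (12 * (2 * m + 1)) - 1 = (2 ^ (6 * (2 * m + 1)) - 1) * ((2 ^ (2 * m + 1)) ^ 6 + 1) := by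
      have h3 : 2 ^ (12 * (2 * m + 1)) = ((2 ^ (2 * m + 1)) ^ 6) ^ 2 := by rw [← pow_mul, ← pow_mul]; ring_nf
      have h4 : 2 ^ (6 * (2 * m + 1)) = (2 ^ (2 * m + 1)) ^ 6 := by rw [← pow_mul]; ring_nf
      rw [h3, h4]
      exact fac _
    rw [h2] at h1
    rcases hl.dvd_mul.1 h1 with h3 | h3
    · have h4 := (hE _).1 h3
      have := Nat.le_of_dvd (by omega) h4
      omega
    · exact h3
  have hdc : l ∣ Nat.card ↥(twistedF4 F (2 ^ m)) := by
    rw [hcard]
    exact hldvd.mul_left _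
  have : Fact l.Prime := ⟨hl⟩
  have hna : ¬ IsMulCommutative ↥(twistedF4 F (2 ^ m)) := by
    intro hc
    have h1 : (Nat.card ↥(twistedF4 F (2 ^ m))).Prime := by
      let _ : CommGroup ↥(twistedF4 F (2 ^ m)) := { mul_comm := fun a b => hc.is_comm.comm a b }
      exact IsSimpleGroup.prime_card
    have h2 : 2 ∣ Nat.card ↥(twistedF4 F (2 ^ m)) := by
      rw [hcard, mul_assoc, mul_assoc, mul_assoc]
      exact ((dvd_pow_self 2 (by omega)).trans (dvd_pow_self _ (by norm_num))).mul_right _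
    have h3 := (Nat.prime_dvd_prime_iff_eq Nat.prime_two h1).1 h2
    have h4 := (Nat.prime_dvd_prime_iff_eq hl h1).1 hdc
    omega
  obtain ⟨ρ, hρi, -⟩ := exists_rep (F := F) (2 ^ m) hna
  -- the torus of `F₄(q)`
  obtain ⟨T, hT, hTc, hTi⟩ := f4_torus (F := F) _ hF
  have hlT : l ∣ Nat.card ↥T := by
    set q := 2 ^ (2 * m + 1) with hq
    have h1 : (q ^ 2 + 1) * (Nat.card ↥T) = q ^ 6 + 1 := by
      have h2 : (q ^ 2 + 1) * (Nat.card ↥T + q ^ 2) = (q ^ 2 + 1) * (q ^ 4 + 1) := by rw [hTc]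
      rw [mul_add] at h2
      have h3 : (q ^ 2 + 1) * (q ^ 4 + 1) = (q ^ 6 + 1) + (q ^ 2 + 1) * q ^ 2 := by ring
      rw [h3] at h2
      exact Nat.add_right_cancel h2
    rw [← h1] at hldvd
    rcases hl.dvd_mul.1 hldvd with h2 | h2
    · exfalso
      have h3 : l ∣ 2 ^ (4 * (2 * m + 1)) - 1 := by
        have h4 : 2 ^ (4 * (2 * m + 1)) - 1 = (q ^ 2 - 1) * (q ^ 2 + 1) := by
          have h5 : 2 ^ (4 * (2 * m + 1)) = (q ^ 2) ^ 2 := by rw [hq, ← pow_mul, ← pow_mul]; ring_nf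
          rw [h5]
          exact fac _
        rw [h4]
        exact h2.mul_left _
      have h4 := Nat.le_of_dvd (by omega) ((hE _).1 h3)
      omega
    · exact h2
  have hle := twF4_le_group (K := F) (2 ^ m)
  let inc := Subgroup.inclusion hle
  have hinc : Function.Injective inc := Subgroup.inclusion_injective hle
  have hcyc : ∀ P : Subgroup ↥(twistedF4 F (2 ^ m)), IsPGroup l P → IsCyclic ↥P := by
    intro P hP
    have h2 := (isolated hT hTi hlT).1 (P.map inc) (hP.map _)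
    exact (P.equivMapOfInjective inc hinc).isCyclic.2 h2
  obtain ⟨a, y, ha, hy, hfull⟩ := exists_full hl hdc hcyc
  have hord : ∀ k, l ∣ Nat.card F ^ k - 1 → 12 ∣ k := by
    intro k hk
    rw [hF', ← pow_mul] at hk
    have h1 := (hE _).1 hk
    rw [mul_comm (2 * m + 1) k] at h1
    exact Nat.dvd_of_mul_dvd_mul_right (by omega) h1
  have hy1 : orderOf (y ^ l ^ (a - 1)) = l := Cfsg.Agent.H518.SU.orderOf_pow_pred hl ha hy
  have hNN : NoNorm 2 (y ^ l ^ (a - 1)) := by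
    refine noNorm_of_injective inc hinc ?_
    exact noNorm_f4_of_torus hF hl hT hTc hTi hlT hord (by rw [orderOf_injective inc hinc, hy1])
  refine ⟨l, a, y, ⟨hl, by omega, ha, hy, ⟨?_, ⟨a, hy⟩, ?_⟩, hfull, ?_⟩, by omega, fun u hu => ?_⟩
  · intro h
    rw [h, orderOf_one] at hy
    exact (Nat.one_lt_pow (by omega) hl.one_lt).ne hy
  · intro M hM hyM A B hA hB hAc hBc
    refine unique_of_centralize hM ha hy hyM (fun P => hcyc P P.isPGroup') ?_ A B hA hB hAc hBc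
    intro t ht htl T' _ hT' hyT'
    by_cases h2 : t = 2
    · subst h2
      exact centralize_of_noNorm hNN hT' hyT'
    · refine Cfsg.Agent.H465.LinSolv.centralize_matrix ρ hρi hl (by omega) ha ht htl ?_ hy hT' hyT' (Or.inl ?_)
      · intro h0
        exact h2 ((Nat.prime_dvd_prime_iff_eq Nat.prime_two ht).1 ((CharP.cast_eq_zero_iff F 2 t).1 h0)).symm
      · have h3 : l ^ a = l ^ (a - 1) * l := by rw [← pow_succ, Nat.sub_add_cancel ha]
        rw [h3]
        have h4 : 1 ≤ l ^ (a - 1) := Nat.one_le_pow _ _ hl.pos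
        have h5 : 37 ≤ l := by omega
        have h6 := Nat.mul_le_mul_left (l ^ (a - 1)) h5
        omega
  · refine inner_of_card hl ?_
    rw [Cfsg.Agent.S2128.result hm hF]
    intro h
    have := Nat.le_of_dvd (by omega) h
    omega
  · have hui : orderOf (inc u) = l := by rw [orderOf_injective inc hinc, hu]
    have h1 := cent_le_of_torus hl hlT (hTi l hl) hui
    have h2 : Nat.card (centralizer ({u} : Set ↥(twistedF4 F (2 ^ m)))) ≤
        Nat.card (centralizer ({inc u} : Set ↥(chevF4.group F))) := by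
      refine Nat.card_le_card_of_injective (fun c : centralizer ({u} : Set ↥(twistedF4 F (2 ^ m))) =>
        (⟨inc c, ?_⟩ : centralizer ({inc u} : Set ↥(chevF4.group F)))) ?_
      · rw [mem_centralizer_singleton_iff, ← map_mul, ← map_mul, mem_centralizer_singleton_iff.1 c.2]
      · intro a b hab
        exact Subtype.ext (hinc (congrArg Subtype.val hab))
    have h3 : 1 ≤ (2 ^ (2 * m + 1)) ^ 2 := Nat.one_le_pow _ _ (by positivity)
    have h4 : Nat.card ↥T ≤ (2 ^ (2 * m + 1)) ^ 4 := by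
      generalize (2 ^ (2 * m + 1)) ^ 4 = x at hTc
      generalize (2 ^ (2 * m + 1)) ^ 2 = z at hTc h3
      omega
    exact h2.trans (h1.trans h4)

/-- **The large Ree groups.** -/
theorem as2_2F4 {K : Type u} [Group K] [Finite K] [IsSimpleGroup K] (hna : ¬ IsMulCommutative K)
    (h : Iso2F4 K) : AS2 K := by
  obtain ⟨F, _, _, m, hm, hF, ⟨e⟩⟩ := h
  have hs : IsSimpleGroup ↥(twistedF4 F (2 ^ m)) := e.symm.isSimpleGroup
  have hfin : Finite ↥(twistedF4 F (2 ^ m)) := Finite.of_equiv K e.toEquiv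
  have hna' : ¬ IsMulCommutative ↥(twistedF4 F (2 ^ m)) := fun h1 => hna ⟨⟨fun a b => e.injective (by
    rw [map_mul, map_mul]; exact h1.is_comm.comm _ _)⟩⟩
  refine AS2.congr e.symm ?_
  obtain ⟨p, a, y, hrow, hp, hc⟩ := row_twF4 hm hF hs
  refine as2_of_cent hna' hrow (by omega) (c := (2 ^ (2 * m + 1)) ^ 4) (b := 2 * (2 ^ (2 * m + 1)) ^ 5) hc
    (fun H hH => ?_) ?_
  · have h1 := H934.HeisTwF4.bound_2F4 hm hF hs H hH
    rw [hF] at h1
    have h2 : 4 * (2 ^ (2 * m + 1)) ^ 10 = (2 * (2 ^ (2 * m + 1)) ^ 5) ^ 2 := by ring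
    rw [h2] at h1
    exact (Nat.pow_le_pow_iff_left (by norm_num)).1 h1
  · have h1 : 1 ≤ 2 ^ (2 * m + 1) := Nat.one_le_pow _ _ (by norm_num)
    generalize 2 ^ (2 * m + 1) = q at h1
    have h2 : q ^ 4 ≤ q ^ 5 := Nat.pow_le_pow_right h1 (by norm_num)
    have h3 : 37 * (2 * q ^ 5) ≤ p * (2 * q ^ 5) := Nat.mul_le_mul_right _ hp
    have h4 : 0 < q ^ 4 := pow_pos h1 4
    omega

end Cfsg.Agent.H489.AS
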