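import Mathlib
import Cfsg.Agent.H489.AS.ExcBase
import Cfsg.Agent.H965.SUTits

/-!
# S3943: the Tits group (helper489)
-/

set_option autoImplicit false

universe u

namespace Cfsg.Agent.H489.AS

open Subgroup Cfsg.Agent.H465.SU Cfsg.Agent.H568 Cfsg.Agent.H87.TitsAbs Cfsg.Agent.H965.AS Cfsg.Agent.H965.SU

/-- **The row of the Tits group.** -/
theorem row_tits (K : Type u) [Group K] [Finite K] (h : Cfsg.Lie.IsoTits K) :
    ∃ y : K, SURow K 13 1 y ∧ Nat.card (centralizer ({y} : Set K)) = 13 := by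
  have hcard : Nat.card K = 17971200 := Cfsg.Agent.NotCT.Orders.tits h
  obtain ⟨D⟩ : Nonempty (Dat K) := dat_aux _ h Cfsg.Agent.H87.TitsData.dat_tits
  have hc := Cfsg.Agent.H845.CopTits.card_cent_x h D
  have h13 : Nat.Prime 13 := by norm_num
  have : Fact (Nat.Prime 13) := ⟨h13⟩
  have hx : orderOf D.x = 13 := orderOf_eq_prime D.x13 D.x1
  have hfull : ¬ 13 ^ 2 ∣ Nat.card K := by rw [hcard]; norm_num
  have hz1 : D.z ≠ 1 := by
    intro h0
    have h1 := D.conj 0 (by norm_num) 0 (by norm_num) 1 (by norm_num) (by norm_num)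
    rw [pow_zero, pow_zero, pow_one, one_mul, one_mul, h0] at h1
    exact D.t1 (isConj_one_right.1 h1)
  have hts : D.t * D.s ≠ D.s * D.t := by
    intro h0
    have h1 := D.ts
    rw [h0] at h1
    exact hz1 (mul_eq_right.1 h1.symm)
  refine ⟨D.x, ⟨h13, by norm_num, le_rfl, by rw [hx, pow_one], ?_, hfull, ?_⟩, hc⟩
  · refine suel_of_noNorm h13 hx hfull fun t ht htl htd => ?_
    have h0 : (17971200 : ℕ) = 2 ^ 11 * 3 ^ 3 * 5 ^ 2 * 13 := by norm_num
    have ht' : t = 2 ∨ t = 3 ∨ t = 5 := by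
      rw [hcard, h0] at htd
      rcases (Nat.Prime.dvd_mul ht).1 htd with h1 | h1
      · rcases (Nat.Prime.dvd_mul ht).1 h1 with h1 | h1
        · rcases (Nat.Prime.dvd_mul ht).1 h1 with h1 | h1
          · exact Or.inl ((Nat.prime_dvd_prime_iff_eq ht Nat.prime_two).1 (ht.dvd_of_dvd_pow h1))
          · exact Or.inr (Or.inl ((Nat.prime_dvd_prime_iff_eq ht Nat.prime_three).1 (ht.dvd_of_dvd_pow h1)))
        · exact Or.inr (Or.inr ((Nat.prime_dvd_prime_iff_eq ht (by norm_num)).1 (ht.dvd_of_dvd_pow h1)))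
      · exact absurd ((Nat.prime_dvd_prime_iff_eq ht h13).1 h1) htl
    refine noNorm_of_num h13 ht htl hx hc fun k hk hkd hkl => ?_
    have hk13 : k ≤ 24 := by
      by_contra h1
      have h2 : t ^ 25 ∣ Nat.card K := (pow_dvd_pow t (by omega)).trans hkd
      have h3 : 2 ^ 25 ≤ t ^ 25 := Nat.pow_le_pow_left ht.two_le 25
      have h4 := Nat.le_of_dvd Nat.card_pos h2
      rw [hcard] at h4
      omega
    rw [hcard] at hkd
    rcases ht' with rfl | rfl | rfl
    · exfalso
      interval_cases k <;> revert hkd hkl <;> norm_num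
    · have hk3 : k = 3 := by
        interval_cases k <;> revert hkd hkl <;> norm_num
      subst hk3
      refine ⟨fun j hj1 hj3 hj => ?_, fun Q hQ _ => ?_⟩
      · interval_cases j <;> revert hj <;> norm_num
      · have : Fact (Nat.Prime 3) := ⟨Nat.prime_three⟩
        refine nonab_of_pair (t := 3) (k := 3) (Q0 := D.R) (IsPGroup.of_card (n := 3) (by rw [D.card_R]; norm_num))
          ⟨1, 0, 0, ?_⟩ ⟨0, 1, 0, ?_⟩ hts (by rw [hcard]; norm_num) Q hQ
        · show D.t ^ 1 * D.s ^ 0 * D.z ^ 0 = D.t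
          rw [pow_one, pow_zero, pow_zero, mul_one, mul_one]
        · show D.t ^ 0 * D.s ^ 1 * D.z ^ 0 = D.s
          rw [pow_one, pow_zero, pow_zero, mul_one, one_mul]
    · exfalso
      interval_cases k <;> revert hkd hkl <;> norm_num
  · refine inner_of_card h13 fun hd => ?_
    have h1 := Cfsg.Agent.H867.TitsOut.card_out_le h
    have h2 := Nat.le_of_dvd Nat.card_pos hd
    omega

/-- **The Tits group.** -/
theorem as2_Tits {K : Type u} [Group K] [Finite K] [IsSimpleGroup K] (hna : ¬ IsMulCommutative K)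
    (h : Cfsg.Lie.IsoTits K) : AS2 K := by
  obtain ⟨y, hr, hc⟩ := row_tits K h
  refine AS2.of_self hna hr (by norm_num) ?_
  rw [Nat.sub_self, pow_zero, pow_one, pow_one]
  exact hc

end Cfsg.Agent.H489.AS
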