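import Mathlib
import Cfsg.Agent.H489.AS.Base
import Cfsg.Agent.H965.ASCyc

/-!
# From the counting data to `AS2` (helper489)
-/

set_option autoImplicit false

universe u v w

namespace Cfsg.Agent.H489.AS

open Module Cfsg.Agent.H518.SU Cfsg.Agent.H965.AS Cfsg.Agent.H965.SU

/-- `El` gives `SUel`. -/
theorem suel_of_el {K : Type u} [Group K] {p a : ℕ} (hp : p.Prime) (ha : 1 ≤ a) {y : K} (hy : orderOf y = p ^ a)
    (h : El p y) : Cfsg.Agent.H465.SU.SUel p y :=
  ⟨fun h1 => by
    rw [h1, orderOf_one] at hy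
    exact (Nat.one_lt_pow (by omega) hp.one_lt).ne hy, ⟨a, hy⟩,
    fun M hM hyM A B hA hB hAc hBc => El.eq_of_card hp ha hy h M hM hyM A B hA hB hAc hBc⟩

/-- **The counting criterion.** -/
theorem Cnt.as2 {K : Type u} [Group K] [Finite K] [IsSimpleGroup K] (hna : ¬ IsMulCommutative K) {g : ℕ}
    (h : Cnt g K) (hg : Nat.card (Cfsg.Out K) ∣ g) : AS2 K := by
  obtain ⟨p, a, b, hp, hp5, ha, hpg, hfull, ⟨y, hy, hel⟩, hb, hcent⟩ := h
  have hr : SURow K p a y :=
    { hp := hp
      odd := by omega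
      ha := ha
      ord := hy
      su := suel_of_el hp ha hy hel
      full := hfull
      inn := fun β hβ => inner_of_card hp (fun h1 => hpg (h1.trans hg)) β hβ }
  have hz : orderOf (y ^ p ^ (a - 1)) = p := by
    rw [orderOf_pow' _ (pow_pos hp.pos _).ne', hy]
    have h1 : p ^ a = p ^ (a - 1) * p := by rw [← pow_succ, Nat.sub_add_cancel ha]
    rw [h1, Nat.gcd_eq_right (Dvd.intro _ rfl), Nat.mul_div_cancel_left _ (pow_pos hp.pos _)]
  exact AS2.of_row hna hr hp5 (c := Nat.card (Subgroup.centralizer ({y ^ p ^ (a - 1)} : Set K))) le_rfl hb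
    (hcent _ hz)

end Cfsg.Agent.H489.AS
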