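import Mathlib
import Cfsg.Agent.H489.AS.Wrap
import Cfsg.Agent.H518.SUTable
import Cfsg.Agent.H490.AS.PSp
import Cfsg.Agent.H541.CntPsu
import Cfsg.Agent.H500.AS.Orth
import Cfsg.Agent.H500.AS.Plus
import Cfsg.Agent.H230.AS.PslRow

/-!
# S3943: the classical groups (helper489)

The rows `cnt_psp` (helper490), `cnt_psu` (helper541), `cnt_odd`, `cnt_minus`, `cnt_plus` (helper500), `as2_psl`
(helper230) put together: `as2_classical`.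
-/

set_option autoImplicit false

universe u v w

namespace Cfsg.Agent.H489.AS

open Module Cfsg.Agent.H518.SU Cfsg.Agent.H965.AS Cfsg.Agent.H518.DghpMat

section

variable {F : Type} [Field F] [Fintype F]

/-- `K` satisfies the counting criterion with `g = |Out K|`. -/
def CntOut (K : Type*) [Group K] : Prop := ∃ g, Cnt g K ∧ Nat.card (Cfsg.Out K) ∣ g

theorem CntOut.congr {G : Type u} {K : Type v} [Group G] [Group K] (h : CntOut G) (e : G ≃* K) : CntOut K := by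
  obtain ⟨g, h1, h2⟩ := h
  exact ⟨g, h1.congr e, by rwa [← card_out_dvd_congr e]⟩

theorem cntOut_psp {m : ℕ} (hm : 2 ≤ m) (h3 : m = 2 → 3 ≤ Fintype.card F) (h26 : ¬ (Fintype.card F = 2 ∧ m = 3))
    (h34 : ¬ (Fintype.card F = 3 ∧ m = 2)) (hZ : Subgroup.center (Cfsg.PSp m F) = ⊥) : CntOut (Cfsg.PSp m F) := by
  obtain ⟨p, f, hp, hf, hq⟩ := exists_pf F rfl
  refine ⟨_, H490.AS.cnt_psp (cond_mul Fintype.one_lt_card _ (Or.inl rfl)) hp hf hq rfl hm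
    (fun h => by have := h3 h.2; omega) h26 h34, ?_⟩
  rw [H163.PG.card_out_psp hp hf hq hm h3 hZ]
  have h1 : (if m = 2 ∧ p = 2 then 2 else 1) * Nat.gcd 2 (p ^ f - 1) ∣ 24 := by
    have h2 : (if m = 2 ∧ p = 2 then 2 else 1) ∣ 2 := by
      split_ifs
      · exact dvd_rfl
      · exact one_dvd _
    exact (Nat.mul_dvd_mul h2 (Nat.gcd_dvd_left _ _)).trans (by norm_num)
  exact Dvd.dvd.mul_right (Nat.mul_dvd_mul_right h1 f) _

theorem cntOut_psu {n q : ℕ} (hF : Fintype.card F = q ^ 2) (hn : 3 ≤ n) (h32 : ¬ (n = 3 ∧ q = 2))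
    (h42 : ¬ (n = 4 ∧ q = 2)) (hZ : Subgroup.center (Cfsg.PSU n F q) = ⊥) : CntOut (Cfsg.PSU n F q) := by
  have hq1 : 1 < q := one_lt_of_sq hF
  obtain ⟨p, k, hp, hk, hqk⟩ := exists_pf F hF
  obtain ⟨f, hf⟩ : ∃ f, q = p ^ f := by
    have h1 : q ∣ p ^ k := by
      rw [← hqk, pow_two]
      exact Dvd.intro _ rfl
    obtain ⟨f, -, hf⟩ := (Nat.dvd_prime_pow hp).1 h1
    exact ⟨f, hf⟩
  have hf1 : 1 ≤ f := by
    rcases Nat.eq_zero_or_pos f with rfl | h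
    · rw [pow_zero] at hf
      omega
    · exact h
  refine ⟨_, H541.CntPsu.cnt_psu (cond_mul (by omega) _ (Or.inr rfl)) hp hf1 hf hF hn h32 h42, ?_⟩
  rw [H163.PG.card_out_psu hp hf1 hf hF hn h32 hZ, mul_comm]
  exact Nat.mul_dvd_mul (Nat.mul_dvd_mul_right (by norm_num) f) (Nat.gcd_dvd_right _ _)

theorem cntOut_odd {m : ℕ} (hm : 3 ≤ m) (hodd : Odd (Fintype.card F)) (h36 : ¬ (Fintype.card F = 3 ∧ m = 3))
    (h56 : ¬ (Fintype.card F = 5 ∧ m = 3)) (hZ : Subgroup.center (Cfsg.POmega F (Cfsg.quadFormOdd m F)) = ⊥) :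
    CntOut (Cfsg.POmega F (Cfsg.quadFormOdd m F)) := by
  obtain ⟨p, f, hp, hf, hq⟩ := exists_pf F rfl
  refine ⟨_, H500.AS.cnt_odd (cond_mul Fintype.one_lt_card _ (Or.inl rfl)) hp hf hq rfl hm hodd h36 h56, ?_⟩
  rw [H163.PG.card_out_oodd hp hf hq hodd hm hZ]
  exact Dvd.dvd.mul_right (Nat.mul_dvd_mul_right (by norm_num) f) _

theorem cntOut_minus {m : ℕ} (hm : 4 ≤ m) (a b : F)
    (hab : ∀ z₁ z₂ : F, z₁ ^ 2 + a * z₁ * z₂ + b * z₂ ^ 2 = 0 → z₁ = 0 ∧ z₂ = 0) :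
    CntOut (Cfsg.POmega F (Cfsg.quadFormMinus (m - 1) F a b)) := by
  obtain ⟨p, f, hp, hf, hq⟩ := exists_pf F rfl
  have := Fact.mk hp
  refine ⟨_, H500.AS.cnt_minus (cond_mul Fintype.one_lt_card _ (Or.inl rfl)) hp hf hq rfl hm a b hab, ?_⟩
  exact Dvd.dvd.mul_right (H149.PGO.card_out_minus hf hq hm a b hab) _

theorem cntOut_plus {m : ℕ} (hm : 4 ≤ m) (h2 : ¬ (Fintype.card F = 2 ∧ m = 4)) (h3 : ¬ (Fintype.card F = 3 ∧ m = 4))
    (h5 : ¬ (Fintype.card F = 5 ∧ m = 4)) : CntOut (Cfsg.POmega F (Cfsg.quadFormPlus m F)) := by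
  obtain ⟨p, f, hp, hf, hq⟩ := exists_pf F rfl
  have := Fact.mk hp
  refine ⟨_, H500.AS.cnt_plus (cond_mul Fintype.one_lt_card _ (Or.inl rfl)) hp hf hq rfl hm h2 h3 h5, ?_⟩
  exact Dvd.dvd.mul_right (H149.PGO.card_out_plus hf hq hm) _

end

/-- **The table of the classical groups.** -/
theorem as2_classical {K : Type u} [Group K] [Finite K] [IsSimpleGroup K] (hna : ¬ IsMulCommutative K)
    (h : Cfsg.IsPSL K ∨ Cfsg.IsPSp K ∨ Cfsg.IsPSU K ∨ Cfsg.IsPOmegaOdd K ∨ Cfsg.IsPOmegaPlus K ∨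
      Cfsg.IsPOmegaMinus K) :
    (∃ (F : Type) (_ : Field F) (_ : Fintype F), 4 ≤ Fintype.card F ∧
      Nonempty (K ≃* Matrix.ProjectiveSpecialLinearGroup (Fin 2) F)) ∨
    (∃ (F : Type) (_ : Field F) (_ : Fintype F), Fintype.card F = 2 ∧
      Nonempty (K ≃* Matrix.ProjectiveSpecialLinearGroup (Fin 4) F)) ∨ Exceptions K ∨ AS2 K := by
  have hZ : Subgroup.center K = ⊥ := by
    rcases Subgroup.Normal.eq_bot_or_eq_top (H := Subgroup.center K) inferInstance with h1 | h1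
    · exact h1
    · exfalso
      apply hna
      exact ⟨⟨fun a b => (Subgroup.mem_center_iff.1 (show b ∈ Subgroup.center K by rw [h1]; trivial) a)⟩⟩
  have key : CntOut K → AS2 K := fun ⟨g, h1, h2⟩ => Cnt.as2 hna h1 h2
  rcases h with ⟨F, hF, hF', n, hn, h2, ⟨e⟩⟩ | ⟨F, hF, hF', m, hm, h3, ⟨e⟩⟩ | ⟨F, hF, hF', n, q, hFq, hn, h32, ⟨e⟩⟩ |
    ⟨F, hF, hF', m, hm, hodd, ⟨e⟩⟩ | ⟨F, hF, hF', m, hm, ⟨e⟩⟩ | ⟨F, hF, hF', m, a, b, hm, hab, ⟨e⟩⟩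
  · by_cases hn2 : n = 2
    · subst hn2
      exact Or.inl ⟨F, hF, hF', h2 rfl, ⟨e⟩⟩
    right
    by_cases h42 : Fintype.card F = 2 ∧ n = 4
    · obtain ⟨h1, rfl⟩ := h42
      exact Or.inl ⟨F, hF, hF', h1, ⟨e⟩⟩
    right
    by_cases h26 : Fintype.card F = 2 ∧ n = 6
    · obtain ⟨h1, rfl⟩ := h26
      exact Or.inl ⟨F, hF, hF', Or.inl ⟨h1, ⟨e⟩⟩⟩
    by_cases h34 : Fintype.card F = 3 ∧ n = 4
    · obtain ⟨h1, rfl⟩ := h34
      exact Or.inl ⟨F, hF, hF', Or.inr (Or.inl ⟨h1, ⟨e⟩⟩)⟩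
    have hs : IsSimpleGroup (Matrix.ProjectiveSpecialLinearGroup (Fin n) F) := e.symm.isSimpleGroup
    have hna' : ¬ IsMulCommutative (Matrix.ProjectiveSpecialLinearGroup (Fin n) F) := fun h => hna
      ⟨⟨fun a b => e.injective (by rw [map_mul, map_mul]; exact h.1.1 _ _)⟩⟩
    exact Or.inr ((H230.AS.as2_psl (by omega) h26 h34 h42 hna').congr e.symm)
  · right; right
    by_cases h26 : Fintype.card F = 2 ∧ m = 3
    · obtain ⟨h1, rfl⟩ := h26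
      exact Or.inl ⟨F, hF, hF', Or.inr (Or.inr (Or.inl ⟨h1, ⟨e⟩⟩))⟩
    by_cases h34 : Fintype.card F = 3 ∧ m = 2
    · obtain ⟨h1, rfl⟩ := h34
      exact Or.inl ⟨F, hF, hF', Or.inr (Or.inr (Or.inr (Or.inl ⟨h1, ⟨e⟩⟩)))⟩
    exact Or.inr (key ((cntOut_psp hm h3 h26 h34 (center_eq_bot_of e hZ)).congr e.symm))
  · right; right
    by_cases h42 : n = 4 ∧ q = 2
    · obtain ⟨rfl, rfl⟩ := h42
      exact Or.inl ⟨F, hF, hF', Or.inr (Or.inr (Or.inr (Or.inr (Or.inl ⟨hFq, ⟨e⟩⟩))))⟩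
    exact Or.inr (key ((cntOut_psu hFq hn h32 h42 (center_eq_bot_of e hZ)).congr e.symm))
  · right; right
    by_cases h36 : Fintype.card F = 3 ∧ m = 3
    · obtain ⟨h1, rfl⟩ := h36
      exact Or.inl ⟨F, hF, hF', Or.inr (Or.inr (Or.inr (Or.inr (Or.inr (Or.inl ⟨h1, ⟨e⟩⟩)))))⟩
    by_cases h56 : Fintype.card F = 5 ∧ m = 3
    · obtain ⟨h1, rfl⟩ := h56
      exact Or.inl ⟨F, hF, hF', Or.inr (Or.inr (Or.inr (Or.inr (Or.inr (Or.inr (Or.inl ⟨h1, ⟨e⟩⟩))))))⟩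
    exact Or.inr (key ((cntOut_odd hm hodd h36 h56 (center_eq_bot_of e hZ)).congr e.symm))
  · right; right
    by_cases h2 : Fintype.card F = 2 ∧ m = 4
    · obtain ⟨h1, rfl⟩ := h2
      exact Or.inl ⟨F, hF, hF', Or.inr (Or.inr (Or.inr (Or.inr (Or.inr (Or.inr (Or.inr (Or.inl ⟨h1, ⟨e⟩⟩)))))))⟩
    by_cases h3 : Fintype.card F = 3 ∧ m = 4
    · obtain ⟨h1, rfl⟩ := h3
      exact Or.inl ⟨F, hF, hF', Or.inr (Or.inr (Or.inr (Or.inr (Or.inr (Or.inr (Or.inr (Or.inr (Or.inl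
        ⟨h1, ⟨e⟩⟩))))))))⟩
    by_cases h5 : Fintype.card F = 5 ∧ m = 4
    · obtain ⟨h1, rfl⟩ := h5
      exact Or.inl ⟨F, hF, hF', Or.inr (Or.inr (Or.inr (Or.inr (Or.inr (Or.inr (Or.inr (Or.inr (Or.inr
        ⟨h1, ⟨e⟩⟩))))))))⟩
    exact Or.inr (key ((cntOut_plus hm h2 h3 h5).congr e.symm))
  · exact Or.inr (Or.inr (Or.inr (key ((cntOut_minus hm a b hab).congr e.symm))))

end Cfsg.Agent.H489.AS
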