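import Cfsg.Agent.H489.AS.Table
import Cfsg.Agent.H791.AS.LTwoII
import Cfsg.Agent.H495.AS.Alt
import Cfsg.Agent.S0256

/-!
# S3943: all classical groups but the nine exceptions (helper489)

`as2_classical'` : `as2_classical` together with the rows of `PSL_2(q)` (helper791) and `PSL_4(2) ≅ A_8` (helper495).
-/

set_option autoImplicit false

universe u

namespace Cfsg.Agent.H489.AS

open Cfsg.Agent.H518.SU Cfsg.Agent.H965.AS

/-- **The classical groups are exceptions or `AS2`.** -/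
theorem as2_classical' {K : Type u} [Group K] [Finite K] [IsSimpleGroup K] (hna : ¬ IsMulCommutative K)
    (h : Cfsg.IsPSL K ∨ Cfsg.IsPSp K ∨ Cfsg.IsPSU K ∨ Cfsg.IsPOmegaOdd K ∨ Cfsg.IsPOmegaPlus K ∨
      Cfsg.IsPOmegaMinus K) : Exceptions K ∨ AS2 K := by
  rcases as2_classical hna h with ⟨F, hF, hF', hq, ⟨e⟩⟩ | ⟨F, hF, hF', hq, ⟨e⟩⟩ | h1 | h1
  · exact Or.inr (H791.AS.row hna e hq)
  · obtain ⟨f⟩ := Cfsg.Agent.S0256.result (F := F) hq
    exact Or.inr (H495.AS.row_ge (by norm_num) (e.trans f))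
  · exact Or.inl h1
  · exact Or.inr h1

end Cfsg.Agent.H489.AS
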